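import Mathlib
import Cfsg.Agent.Lib.MultC.Ru.P2
import Cfsg.Agent.Lib.MultC.Ru.Cov
import Cfsg.Agent.Lib.FiLoc.Tree
import Cfsg.Agent.Lib.Comput.Cent

/-! Certificates for a Sylow 2-subgroup of the Rudvalis group and for its double cover (generated data). -/

set_option autoImplicit false
set_option maxRecDepth 100000
set_option Elab.async false

namespace CfsgLib.StdRu

open CfsgLib.Comput CfsgLib.FiTool CfsgLib.FiLoc CfsgLib.MultC.Ru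

/-- the test of an equation between words in the letters `P2.X` -/
noncomputable def eqX : Eqn → Bool := eqChk (stepT 4060 12 P2.X) (idTab 4060 12)

/-- the test of an equation in the cover -/
noncomputable def eqY : Eqn → Bool := eqChk (stepT 16240 14 Cov.Y) (idTab 16240 14)

/-- `(0, _, _)`: the coset lies in the last group of order two; `(k + 1, u, w)`: `u x u⁻¹ = x α_k w` -/
noncomputable def leafZ (j x a b c : ℕ) : Bool :=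
  Nat.rec (band (Nat.ble 13 j) (Nat.beq x 0))
    (fun k _ => band (band (blt k j) (blt k 14)) (band (band (inA (rngA 14 0) b) (inA (rngA 14 (Nat.succ k)) c))
      (eqX ([b, x], [x, Nat.succ k, c, b])))) a

/-- the letter `j` is a product of two roots of the letter `13` -/
noncomputable def rootOK (l : List (ℕ × ℕ × ℕ × ℕ)) (j : ℕ) : Bool :=
  (fun e : ℕ × ℕ × ℕ × ℕ => band (eqX ([Nat.succ j], [e.1, e.2.2.1]))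
    (band (eqX (List.replicate e.2.1 e.1, [14])) (eqX (List.replicate e.2.2.2 e.2.2.1, [14])))) (nth (0, 0, 0, 0) l j)

/-- the series -/
def ser : List (ℕ × List ℕ) := [(0, [0x2050e, 0x306, 0x407, 0x50e, 0x60c, 0x70d, 8, 0x90d, 0xa0d0e, 0xb0c, 12, 13, 14]),
  (0, [0x304, 4, 0x50e, 0x608, 0x70a, 0x80e, 0x90b, 10, 11, 0xc0d, 13, 14]),
  (0, [4, 0x50708090a, 0x60c, 0x7090b0c0e, 0x809, 9, 0xa0b, 11, 12, 0xd0e, 14]),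
  (0, [0x50a0d0e, 0x6090b0d0e, 0x70d, 0x80b, 9, 10, 11, 0xc0e, 13, 14]),
  (14, [0x60d, 0x70d0e, 8, 0x90c0d, 10, 0xb0d, 12, 13, 14]),
  (12, [0x70c0d, 0x80d0e, 0x90e, 0xa0c0e, 11, 12, 13, 14]),
  (13, [0x80c0e, 9, 10, 0xb0e, 12, 13, 14]),
  (14, [9, 0xa0d, 11, 12, 13, 14]),
  (0, [0xa0e, 11, 12, 13, 14]),
  (0, [11, 12, 13, 14]),
  (0, [12, 13, 14]),
  (0, [13, 14]),
  (0, [14]),
  (0, [])]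

/-- the class tree of the involutions -/
def tI : CT := (.s2 (.s2 (.s2 (.s2 (.s2 (.s2 (.s2 (.s2 (.s2 (.s2 (.s2 (.s2 (.s2 (.s2 (.lf 0 0 2)
 (.lf 0 0 0))
 (.s1 (.lf 0 0x1003 0) 3 0))
 (.s1 (.s1 (.lf 0 0x100f0f 0) 4 0) 2 0))
 (.s1 (.s1 (.s1 (.lf 0 0x10110305 0) 7 0) 5 0) 1 0))
 (.s1 (.s1 (.s1 (.s1 (.lf 0 0x10111001 0) 9 0) 8 0) 6 14) 3 0))
 (.s2 (.s1 (.s1 (.s1 (.s1 (.lf 0 0x10110f02 0) 6 0) 1 0) 5 13) 2 0)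
 (.s1 (.s1 (.s1 (.s1 (.lf 14 1 0) 1 0) 8 0) 6 0) 2 0)))
 (.s1 (.s2 (.s1 (.s1 (.s1 (.s1 (.lf 14 1 0) 2 0) 10 0) 7 14) 4 0)
 (.s1 (.s1 (.s1 (.lf 13 1 14) 8 0) 6 13) 4 0)) 3 0))
 (.s2 (.s1 (.s1 (.s2 (.s1 (.s1 (.lf 13 1 0) 1 0) 6 13)
 (.s1 (.s1 (.lf 13 1 14) 4 0) 1 13)) 2 0) 3 0xb0c0e)
 (.s2 (.s1 (.s1 (.s1 (.lf 12 1 13) 6 14) 4 13) 2 0xd0e)
 (.s1 (.s1 (.s1 (.lf 12 1 13) 6 0) 4 13) 2 0xb0d))))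
 (.s2 (.s1 (.s1 (.s2 (.s2 (.s1 (.lf 12 1 0) 1 0)
 (.s1 (.lf 12 1 0) 3 0))
 (.s1 (.s1 (.s1 (.s1 (.lf 14 1 0) 8 0) 5 0) 6 14) 3 12)) 4 0xb0d0e) 2 0)
 (.s1 (.s1 (.s2 (.s2 (.s1 (.s1 (.s1 (.lf 0 0x101110060f01 0) 5 0) 0x10a 14) 1 13)
 (.s1 (.s1 (.s1 (.lf 14 1 0) 9 0) 1 0) 6 13))
 (.s1 (.s1 (.lf 12 1 14) 8 0) 0x304 14)) 4 11) 2 0xa0c0e)))
 (.s2 (.s1 (.s2 (.s2 (.s1 (.s2 (.s1 (.s1 (.s1 (.lf 14 1 0) 1 0) 6 0) 9 13)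
 (.s1 (.s1 (.lf 13 1 14) 5 0) 1 14)) 4 0xd0e)
 (.s1 (.s1 (.s1 (.lf 12 1 0xd0e) 5 13) 2 14) 4 13))
 (.s2 (.s1 (.s2 (.s1 (.s1 (.s1 (.lf 0 0x10110f021003 0) 1 0) 10 0) 7 13)
 (.s1 (.s1 (.lf 13 1 0) 5 0) 1 14)) 4 0xb0e)
 (.s1 (.s1 (.s1 (.lf 12 1 13) 5 13) 2 0) 4 11))) 3 0x8090a)
 (.s1 (.s1 (.s1 (.s2 (.s2 (.s1 (.lf 12 1 0xd0e) 1 14)
 (.s1 (.lf 12 1 14) 7 0))
 (.s2 (.s1 (.s1 (.lf 13 1 0) 5 0) 1 13)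
 (.s1 (.s1 (.s1 (.lf 0 0xf10 1) 8 0) 1 0) 7 0))) 4 0xa0b0c) 2 14) 0x304 8)))
 (.s2 (.s2 (.s1 (.s2 (.s1 (.s1 (.s1 (.s2 (.s1 (.s1 (.lf 0 0x101110110605 0) 12 0) 7 0)
 (.s1 (.s1 (.lf 14 1 0) 4 0) 2 0)) 8 0) 5 0xd0e) 6 0xb0d)
 (.s1 (.s1 (.s1 (.lf 11 1 14) 4 0) 5 14) 3 0)) 1 0)
 (.s1 (.s1 (.s1 (.lf 9 1 0xb0c0d) 0x408 0) 2 0) 1 13))
 (.s2 (.s1 (.s1 (.s1 (.s1 (.lf 10 1 13) 4 0xd0e) 6 0xb0c) 0x103 0x90a0d0e) 1 13)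
 (.s1 (.s1 (.s1 (.lf 9 1 0xa0b0d0e) 4 0xa0b0c) 2 14) 1 0))))
 (.s1 (.s2 (.s1 (.s1 (.s2 (.s1 (.s2 (.s1 (.s1 (.s2 (.s1 (.lf 0 0x10111011011105 0) 13 0)
 (.s1 (.lf 14 1 0) 3 0)) 6 0) 10 0)
 (.s1 (.lf 11 1 0) 3 0)) 8 0)
 (.s1 (.lf 9 1 14) 3 0)) 5 0x8090a0c0e) 1 0)
 (.s1 (.s1 (.lf 7 1 0x8090a0c) 3 0x8090a) 1 0xd0e)) 2 0))
 (.s2 (.s1 (.s1 (.s2 (.s2 (.s1 (.s2 (.s1 (.s1 (.s2 (.s1 (.s1 (.lf 0 0x1011101106100903 0) 5 0) 12 0)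
 (.s1 (.lf 13 1 0) 2 0)) 9 0) 7 0)
 (.s1 (.s1 (.lf 11 1 0) 2 0) 7 14)) 6 0xd0e)
 (.s1 (.s2 (.s1 (.lf 10 1 13) 2 0)
 (.s1 (.lf 10 1 0xb0d0e) 7 14)) 6 0))
 (.s2 (.s1 (.lf 8 1 0xc0d0e) 2 0)
 (.s1 (.lf 8 1 0xa0c0d) 6 0xd0e))) 1 14) 3 0)
 (.s1 (.lf 4 1 0) 2 0)))
 (.s2 (.s2 (.s2 (.s1 (.s1 (.s1 (.s2 (.s2 (.s2 (.s2 (.s1 (.s1 (.s1 (.lf 0 0x100f1110030f 0) 5 0) 7 0) 6 0)
 (.s1 (.lf 12 1 0) 1 0))
 (.s2 (.s1 (.s1 (.lf 13 1 14) 7 0) 11 0)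
 (.s1 (.lf 12 1 0xd0e) 11 0)))
 (.s2 (.s2 (.s1 (.s1 (.lf 13 1 0) 1 0) 11 0)
 (.s1 (.lf 12 1 13) 11 0))
 (.s2 (.s1 (.s1 (.s1 (.lf 0 0xf01 1) 1 0) 7 0) 11 0)
 (.s1 (.lf 12 1 0) 11 0))))
 (.s2 (.s2 (.s2 (.s1 (.s1 (.s1 (.lf 14 1 0) 5 0) 9 0) 11 0)
 (.s1 (.lf 12 1 14) 1 0))
 (.s2 (.s1 (.s1 (.s1 (.lf 0 0x210 1) 5 0) 6 0) 11 0)
 (.s1 (.lf 12 1 0) 11 0)))
 (.s2 (.s2 (.s1 (.s1 (.lf 13 1 14) 1 0) 11 0)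
 (.s1 (.lf 12 1 0xd0e) 11 0))
 (.s2 (.s1 (.s1 (.lf 13 1 14) 8 0) 11 0)
 (.s1 (.lf 12 1 0xd0e) 11 0))))) 4 13) 3 12) 2 0)
 (.s1 (.s1 (.s1 (.lf 7 1 13) 1 0) 0x306 0) 2 0xa0d0e))
 (.s1 (.s2 (.s1 (.lf 6 1 12) 1 0)
 (.s1 (.lf 6 1 0x708090a0e) 1 0xd0e)) 0x205 0x50e))
 (.s2 (.s1 (.s1 (.lf 5 1 0) 1 14) 0x306 6)
 (.s1 (.lf 4 1 0x50608090a0e) 3 0x608))))

/-- the tree for the centre -/
def tZ : CT := (.s2 (.s2 (.s2 (.s2 (.s2 (.s2 (.s2 (.s2 (.s2 (.s2 (.s2 (.s2 (.s2 (.lf 0 0 0)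
 (.s1 (.lf 14 3 0) 3 0))
 (.s1 (.lf 13 2 0) 2 0))
 (.s1 (.lf 12 1 0) 1 0))
 (.s1 (.lf 11 3 0) 3 0))
 (.s2 (.s1 (.lf 11 2 0) 2 0)
 (.s1 (.lf 11 2 0) 2 0)))
 (.s1 (.lf 9 3 0) 3 0))
 (.s2 (.s1 (.lf 9 3 0xb0c0e) 3 0xb0c0e)
 (.s2 (.s1 (.lf 10 2 0xd0e) 2 0xd0e)
 (.s1 (.lf 10 2 0xb0d) 2 0xb0d))))
 (.s2 (.s1 (.lf 8 2 0) 2 0)
 (.s1 (.lf 8 2 0xa0c0e) 2 0xa0c0e)))
 (.s2 (.s1 (.lf 7 3 0x8090a) 3 0x8090a)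
 (.s1 (.lf 7 0x304 8) 0x304 8)))
 (.s2 (.s2 (.s1 (.lf 7 1 0) 1 0)
 (.s1 (.lf 7 1 13) 1 13))
 (.s2 (.s1 (.lf 7 1 13) 1 13)
 (.s1 (.lf 7 1 0) 1 0))))
 (.s1 (.lf 4 2 0) 2 0))
 (.s2 (.s1 (.lf 4 3 0) 3 0)
 (.s1 (.lf 4 2 0) 2 0)))
 (.s2 (.s2 (.s2 (.s1 (.lf 5 2 0) 2 0)
 (.s1 (.lf 5 2 0xa0d0e) 2 0xa0d0e))
 (.s1 (.lf 4 0x205 0x50e) 0x205 0x50e))
 (.s2 (.s1 (.lf 4 0x306 6) 0x306 6)
 (.s1 (.lf 4 3 0x608) 3 0x608))))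

/-- the roots -/
def rts : List (ℕ × ℕ × ℕ × ℕ) := [(8, 2, 0x1080e, 2), (0x108, 2, 0x10208, 4), (0x40c, 2, 0x3040c0e, 2), (0x90a, 2, 0x4090a0e, 2), (14, 1, 0x50e, 2), (0x6090a, 2, 0x90a0e, 2), (0x40c, 2, 0x4070c0e, 2), (14, 1, 0x80e, 2), (8, 2, 0x8090e, 2), (5, 2, 0x50a0e, 2), (8, 2, 0x80b0e, 2), (5, 2, 0x50c0e, 2), (5, 2, 0x50d0e, 2), (5, 2, 5, 2)]

theorem ser_ok : serOK eqX 14 2 ser 0 = true := by decide +kernel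
theorem tI_ok : tI.ok eqX (leafC eqX [14, 0x50607] (rngA 14 0) 0x1ffff 14 2) (rngA 14 0) 14 2 0 0 = true := by
  decide +kernel
theorem tZ_ok : tZ.ok eqX leafZ (rngA 14 0) 14 2 0 0 = true := by decide +kernel
theorem rts_ok : allI (rootOK rts) 0 14 = true := by decide +kernel
theorem fix_ok : fixOK (stepN P2.X) 4060 0x50607
    0x100042000000040000004000840000000000008000000018000000200110000004000020020400000006c803000000000a50081300822c40000400058320043200f2408004204010020800104e40002100020021181810d00408c41484050242411000000c8020042900861142040262822549105a2808990506ac05c01809059206296a0b6b9d06d908112230480ac86a58941134bc9d018281627e64001027194725813d6aa429a0022a82a1858400a400e31216a804291a0016d692670ea1825b14ae749e2117282ef281a41804724a0ab2019815932d8cd380d2b4c74bf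541321d8f5adf4757e44c8980d5843a4fe776e7aa9f4a1c4a74023bd2770b2f096b5fd3559c34d9773acdd079a73934e3ecc28e6d78ab2d2cea0e69af5637f9ffb70eb0ab9a5ae9983623f18f85ded67be7af7798fb2e6cbfce287fdaf7adedfdfafdf4ed77e77b284b75ff65ebfed1fea6eb6ccf6e74f6ef76ec21757dca6f7e52df29b87d576428fba9fc6ff4697b9cf56aec77abbfbcf7fafb1f5ffeb4affde7a7feaefff6fdff77beff7ffdfefffbb975d73fbf2ffeff5fffffbffafeeffff79eff6ffffdffdfffcfdbffefbffffffd7df59bddfdef7ffffffdffbffcfffeadefdffffffffefdffffffffffffffffffffeffffffffffbfffffffffffffffffffffffffffffffffffffffffffffffff 0 = true := by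
  decide +kernel

theorem y_c : eqY (List.replicate 4 32, []) = true := by decide +kernel
theorem y_1 : eqY (List.replicate 8 13, []) = true := by decide +kernel
theorem y_2 : eqY (List.replicate 8 0x2140a, []) = true := by decide +kernel
theorem y_3 : eqY ((List.replicate 3 (List.replicate 4 13 ++ List.replicate 4 0x2140a)).flatten, [0x2020]) = true := by
  decide +kernel
theorem y_4 : eqY ((List.replicate 14 (List.replicate 4 4 ++ List.replicate 4 30)).flatten, [0x2020]) = true := by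
  decide +kernel
theorem y_5 : tb (act (stepN Cov.Y) 0x2020 (Nat.shiftLeft 1 0)) 0 = false := by decide +kernel
theorem y_6 : tb (act (stepN CfsgLib.Ru.P.W) 0xd0d0d0d (Nat.shiftLeft 1 2)) 2 = false := by decide +kernel

end CfsgLib.StdRu
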